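import Cfsg.Agent.Lib.PermClass.Sylow

/-!
A permutation group of degree `n` has at most `4 ^ n` conjugacy classes: classes are counted by
splitting off the part of the largest prime, whose centraliser acts on the cycles.
-/

namespace Cfsg.Agent.PermClass

open MulAction

universe u

/-- All prime divisors of the order are at most `N`. -/
def Smooth {G : Type*} [Group G] (N : ℕ) (g : G) : Prop :=
  ∀ q : ℕ, q.Prime → q ∣ orderOf g → q ≤ N

/-- `B` many elements represent all classes of `N`-smooth elements. -/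
def Cover (G : Type*) [Group G] (N : ℕ) (B : ℚ) : Prop :=
  ∃ R : Finset G, (R.card : ℚ) ≤ B ∧ ∀ g : G, Smooth N g → ∃ r ∈ R, IsConj r g

theorem exists_twist {K : Type*} [CommGroup K] (σ : K →* K) (m t : ℕ) (k : K)
    (hN : ∏ i ∈ Finset.range m, (σ^[i]) k = 1) (ht : k ^ (m * t) = k) :
    ∃ a, σ a = a * k := by
  let S : ℕ → K := fun j => ∏ i ∈ Finset.range j, (σ^[i]) k
  have hS : ∀ j, σ (S j) * k = S (j + 1) := by
    intro j
    simp only [S]
    rw [Finset.prod_range_succ', map_prod]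
    simp [Function.iterate_succ_apply']
  let A : K := ∏ j ∈ Finset.range m, S j
  have hA : σ A * k ^ m = A := by
    calc σ A * k ^ m = ∏ j ∈ Finset.range m, (σ (S j) * k) := by
          rw [Finset.prod_mul_distrib, ← map_prod, Finset.prod_const, Finset.card_range]
      _ = ∏ j ∈ Finset.range m, S (j + 1) := by simp only [hS]
      _ = A := by
          have h1 : (∏ j ∈ Finset.range (m + 1), S j) = A * S m := Finset.prod_range_succ _ _
          have h2 := Finset.prod_range_succ' S m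
          have h0 : S 0 = 1 := by simp [S]
          have hm : S m = 1 := hN
          rw [h1, hm, h0, mul_one, mul_one] at h2
          exact h2.symm
  refine ⟨(A ^ t)⁻¹, ?_⟩
  rw [map_inv, map_pow]
  have hA' : σ A = A * (k ^ m)⁻¹ := eq_mul_inv_of_mul_eq hA
  rw [hA', mul_pow, mul_inv, inv_pow, inv_inv, ← pow_mul, ht]

/-- Two elements of order prime to the exponent of an abelian kernel with the same image are
conjugate. -/
theorem isConj_of_same_image {C D : Type*} [Group C] [Group D] (ψ : C →* D)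
    (hab : ∀ a ∈ ψ.ker, ∀ b ∈ ψ.ker, a * b = b * a) {e : ℕ} (he : ∀ a ∈ ψ.ker, a ^ e = 1)
    {y y' : C} (hψ : ψ y = ψ y') {m : ℕ} (hy : y ^ m = 1) (hy' : y' ^ m = 1) (hme : m.Coprime e) :
    IsConj y y' := by
  rcases Nat.eq_zero_or_pos e with rfl | he0
  · rw [Nat.coprime_zero_right] at hme
    subst hme
    rw [pow_one] at hy hy'
    rw [hy, hy']
  letI : CommGroup ψ.ker :=
    { (inferInstance : Group ψ.ker) with mul_comm := fun a b => Subtype.ext (hab a a.2 b b.2) }
  let σ : ψ.ker →* ψ.ker :=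
    { toFun := fun a => ⟨y * a * y⁻¹, (MonoidHom.normal_ker ψ).conj_mem _ a.2 y⟩
      map_one' := by ext; simp
      map_mul' := fun a b => by ext; simp [mul_assoc] }
  have hσi : ∀ i (a : ψ.ker), (((σ^[i]) a : ψ.ker) : C) = y ^ i * a * (y ^ i)⁻¹ := by
    intro i
    induction i with
    | zero => intro a; simp
    | succ i ih =>
      intro a
      rw [Function.iterate_succ_apply']
      show y * (((σ^[i]) a : ψ.ker) : C) * y⁻¹ = _
      rw [ih, pow_succ']
      group
  -- `y' = k * y`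
  let k : ψ.ker := ⟨y' * y⁻¹, by rw [MonoidHom.mem_ker, map_mul, map_inv, hψ, mul_inv_cancel]⟩
  have hprod : ∀ j, ((∏ i ∈ Finset.range j, (σ^[i]) k : ψ.ker) : C) = y' ^ j * (y ^ j)⁻¹ := by
    intro j
    induction j with
    | zero => simp
    | succ j ih =>
      rw [Finset.prod_range_succ, Subgroup.coe_mul, ih, hσi]
      show y' ^ j * (y ^ j)⁻¹ * (y ^ j * (y' * y⁻¹) * (y ^ j)⁻¹) = _
      rw [pow_succ, pow_succ' y]
      group
  have hk : k ^ e = 1 := Subtype.ext (he _ k.2)
  obtain ⟨t, ht⟩ : ∃ t, k ^ (m * t) = k := by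
    rcases Nat.lt_or_ge 1 e with h1 | h1
    · obtain ⟨t, -, ht⟩ := Nat.exists_mul_mod_eq_one_of_coprime hme h1
      refine ⟨t, ?_⟩
      rw [← Nat.mod_add_div (m * t) e, pow_add, pow_mul, hk, one_pow, mul_one, ht, pow_one]
    · obtain rfl : e = 1 := by omega
      rw [pow_one] at hk
      exact ⟨0, by simp [hk]⟩
  obtain ⟨a, ha⟩ := exists_twist σ m t k (Subtype.ext (by simp [hprod, hy, hy'])) ht
  refine isConj_iff.mpr ⟨(a : C)⁻¹, ?_⟩
  have := congrArg Subtype.val ha
  change y * (a : C) * y⁻¹ = a * (y' * y⁻¹) at this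
  rw [inv_inv]
  have h2 : y * (a : C) = a * y' := by
    have := congrArg (· * y) this
    simpa [mul_assoc] using this
  rw [mul_assoc, h2, inv_mul_cancel_left]

variable {X : Type u}

/-- The centraliser of `x` acts on the cycles of `x`. -/
def cycleHom (G : Subgroup (Equiv.Perm X)) (x : Equiv.Perm X) :
    (G ⊓ Subgroup.centralizer {x} : Subgroup (Equiv.Perm X)) →*
      Equiv.Perm (orbitRel.Quotient (Subgroup.zpowers x) X) where
  toFun h := Quotient.congr (h : Equiv.Perm X) fun a b => by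
    rw [orbitRel_apply, orbitRel_apply, mem_orbit_zpowers, mem_orbit_zpowers]
    have hc : ∀ i : ℤ, (x ^ i) ((h : Equiv.Perm X) b) = (h : Equiv.Perm X) ((x ^ i) b) := by
      intro i
      have h1 : Commute x (h : Equiv.Perm X) :=
        Subgroup.mem_centralizer_iff.mp h.2.2 x (Set.mem_singleton x)
      exact Equiv.ext_iff.mp (h1.zpow_left i) b
    simp only [hc, EmbeddingLike.apply_eq_iff_eq]
  map_one' := by
    ext q
    induction q using Quotient.inductionOn' with
    | _ a => rfl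
  map_mul' g h := by
    ext q
    induction q using Quotient.inductionOn' with
    | _ a => rfl

theorem cycleHom_mk (G : Subgroup (Equiv.Perm X)) (x : Equiv.Perm X)
    (h : (G ⊓ Subgroup.centralizer {x} : Subgroup (Equiv.Perm X))) (a : X) :
    cycleHom G x h (Quotient.mk'' a) = Quotient.mk'' ((h : Equiv.Perm X) a) := rfl

theorem cycleHom_ker_apply (G : Subgroup (Equiv.Perm X)) (x : Equiv.Perm X)
    (h : (G ⊓ Subgroup.centralizer {x} : Subgroup (Equiv.Perm X))) (hh : h ∈ (cycleHom G x).ker)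
    (a : X) : ∃ i : ℤ, (h : Equiv.Perm X) a = (x ^ i) a ∧
      ∀ j : ℤ, (h : Equiv.Perm X) ((x ^ j) a) = (x ^ i) ((x ^ j) a) := by
  have h1 := cycleHom_mk G x h a
  rw [MonoidHom.mem_ker.mp hh] at h1
  have h2 : (Quotient.mk'' ((h : Equiv.Perm X) a) : orbitRel.Quotient (Subgroup.zpowers x) X) =
      Quotient.mk'' a := h1.symm
  rw [Quotient.eq'', orbitRel_apply, mem_orbit_zpowers] at h2
  obtain ⟨i, hi⟩ := h2
  refine ⟨i, hi.symm, fun j => ?_⟩
  have hc : Commute x (h : Equiv.Perm X) :=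
    Subgroup.mem_centralizer_iff.mp h.2.2 x (Set.mem_singleton x)
  calc (h : Equiv.Perm X) ((x ^ j) a) = (x ^ j) ((h : Equiv.Perm X) a) :=
        (Equiv.ext_iff.mp (hc.zpow_left j) a).symm
    _ = (x ^ j) ((x ^ i) a) := by rw [hi]
    _ = _ := by rw [← Equiv.Perm.mul_apply, ← zpow_add, add_comm, zpow_add, Equiv.Perm.mul_apply]

theorem cycleHom_ker_comm (G : Subgroup (Equiv.Perm X)) (x : Equiv.Perm X) :
    ∀ a ∈ (cycleHom G x).ker, ∀ b ∈ (cycleHom G x).ker, a * b = b * a := by
  intro a ha b hb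
  refine Subtype.ext (Equiv.ext fun c => ?_)
  obtain ⟨i, hi, hi'⟩ := cycleHom_ker_apply G x a ha c
  obtain ⟨j, hj, hj'⟩ := cycleHom_ker_apply G x b hb c
  show (a : Equiv.Perm X) ((b : Equiv.Perm X) c) = (b : Equiv.Perm X) ((a : Equiv.Perm X) c)
  rw [hj, hi', hi, hj', ← Equiv.Perm.mul_apply, ← Equiv.Perm.mul_apply, ← zpow_add, ← zpow_add,
    add_comm]

theorem cycleHom_ker_pow (G : Subgroup (Equiv.Perm X)) (x : Equiv.Perm X) {e : ℕ}
    (he : x ^ e = 1) : ∀ a ∈ (cycleHom G x).ker, a ^ e = 1 := by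
  intro a ha
  refine Subtype.ext (Equiv.ext fun c => ?_)
  obtain ⟨i, hi, hi'⟩ := cycleHom_ker_apply G x a ha c
  have : ∀ n : ℕ, ((a : Equiv.Perm X) ^ n) c = (x ^ (i * n)) c := by
    intro n
    induction n with
    | zero => simp
    | succ n ih =>
      rw [pow_succ', Equiv.Perm.mul_apply, ih, hi', ← Equiv.Perm.mul_apply, ← zpow_add]
      congr 2
      push_cast
      ring
  rw [Subgroup.coe_pow, this, mul_comm i (e : ℤ), zpow_mul, zpow_natCast, he, one_zpow]
  simp

/-- Splitting a group element into commuting `p`- and `p'`-parts. -/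
theorem exists_part {G : Type*} [Group G] [Finite G] (p : ℕ) [Fact p.Prime] (g : G) :
    ∃ x y : G, g = x * y ∧ Commute x y ∧ (∃ e, x ^ p ^ e = 1) ∧
      orderOf y ∣ orderOf g ∧ ¬ p ∣ orderOf y := by
  obtain ⟨e, m, hm, hom⟩ := Nat.exists_eq_pow_mul_and_not_dvd (orderOf_pos g).ne' p
    (Fact.out : p.Prime).ne_one
  have hcop : (m : ℤ).gcd ((p ^ e : ℕ) : ℤ) = 1 := by
    rw [Int.gcd_natCast_natCast]
    exact (((Fact.out : p.Prime).coprime_iff_not_dvd.mpr hm).pow_left e).symm
  have hB := Int.gcd_eq_gcd_ab (m : ℤ) ((p ^ e : ℕ) : ℤ)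
  rw [hcop] at hB
  set A := Int.gcdA (m : ℤ) ((p ^ e : ℕ) : ℤ)
  set B := Int.gcdB (m : ℤ) ((p ^ e : ℕ) : ℤ)
  have hg : g ^ ((p ^ e : ℕ) * m : ℤ) = 1 := by
    rw [← Int.natCast_mul, zpow_natCast, ← hom, pow_orderOf_eq_one]
  have hy : orderOf (g ^ (((p ^ e : ℕ) : ℤ) * B)) ∣ m := by
    rw [orderOf_dvd_iff_pow_eq_one, ← zpow_natCast, ← zpow_mul,
      show ((p ^ e : ℕ) : ℤ) * B * m = ((p ^ e : ℕ) * m : ℤ) * B by ring, zpow_mul, hg, one_zpow]
  refine ⟨g ^ ((m : ℤ) * A), g ^ (((p ^ e : ℕ) : ℤ) * B), ?_, Commute.zpow_zpow_self g _ _,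
    ⟨e, ?_⟩, hy.trans (hom ▸ dvd_mul_left m _), fun h => hm (h.trans hy)⟩
  · rw [← zpow_add, ← hB, Nat.cast_one, zpow_one]
  · rw [← zpow_natCast, ← zpow_mul,
      show (m : ℤ) * A * (p ^ e : ℕ) = ((p ^ e : ℕ) * m : ℤ) * A by ring, zpow_mul, hg, one_zpow]

/-- The inductive step. -/
theorem cover_step [Finite X] {N p : ℕ} [hpf : Fact p.Prime] (hp : p = N + 1) {C B : ℚ}
    (ih : ∀ (Y : Type u) [Finite Y] (H : Subgroup (Equiv.Perm Y)), Cover H N (C ^ Nat.card Y))
    (hB : ∀ P : Subgroup (Equiv.Perm X), IsPGroup p P → wsum C P ≤ B)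
    (G : Subgroup (Equiv.Perm X)) : Cover G p B := by
  classical
  obtain ⟨P⟩ := (inferInstance : Nonempty (Sylow p G))
  let P' : Subgroup (Equiv.Perm X) := (P : Subgroup G).map G.subtype
  have hP' : IsPGroup p P' := P.2.map _
  -- representatives inside each centraliser
  have hcen : ∀ x : Equiv.Perm X, (∃ e, x ^ p ^ e = 1) →
      Cover (G ⊓ Subgroup.centralizer {x} : Subgroup (Equiv.Perm X)) N (C ^ cyc x) := by
    intro x hxp
    obtain ⟨e, hxe⟩ := hxp
    obtain ⟨R, hR, hRc⟩ := ih (orbitRel.Quotient (Subgroup.zpowers x) X) (cycleHom G x).range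
    let lift : (cycleHom G x).range → (G ⊓ Subgroup.centralizer {x} : Subgroup (Equiv.Perm X)) :=
      fun d => if h : ∃ c, Smooth N c ∧ cycleHom G x c = d then h.choose else 1
    refine ⟨R.image lift, le_trans (by exact_mod_cast Finset.card_image_le) hR, fun y hy => ?_⟩
    have hdy : Smooth N ((cycleHom G x).rangeRestrict y) :=
      fun q hq hd => hy q hq (hd.trans (orderOf_map_dvd _ _))
    obtain ⟨r, hr, hconj⟩ := hRc _ hdy
    obtain ⟨c, hc⟩ := isConj_iff.mp hconj.symm
    obtain ⟨d, rfl⟩ := (cycleHom G x).rangeRestrict_surjective c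
    have hex : ∃ z, Smooth N z ∧ cycleHom G x z = r := ⟨d * y * d⁻¹, by
      have : orderOf (d * y * d⁻¹) = orderOf y :=
        (orderOf_injective (MulAut.conj d).toMonoidHom (MulAut.conj d).injective y)
      exact fun q hq hd => hy q hq (this ▸ hd), by
      rw [← hc]; simp⟩
    refine ⟨lift r, Finset.mem_image.mpr ⟨r, hr, rfl⟩, ?_⟩
    simp only [lift, dif_pos hex]
    obtain ⟨hzs, hze⟩ := hex.choose_spec
    refine (isConj_of_same_image (cycleHom G x) (cycleHom_ker_comm G x) (cycleHom_ker_pow G x hxe)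
      (y := hex.choose) (y' := d * y * d⁻¹) ?_ (m := orderOf hex.choose * orderOf y) ?_ ?_ ?_).trans
      (isConj_iff.mpr ⟨d⁻¹, by group⟩)
    · rw [hze, ← hc]; simp
    · rw [pow_mul, pow_orderOf_eq_one, one_pow]
    · rw [mul_comm, pow_mul, conj_pow, pow_orderOf_eq_one]; simp
    · refine Nat.Coprime.pow_right _ ?_
      refine (Nat.Coprime.mul_left ?_ ?_) <;> refine Nat.Coprime.symm ?_ <;>
        refine (Fact.out : p.Prime).coprime_iff_not_dvd.mpr fun h => ?_
      · have := hzs p Fact.out h; omega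
      · have := hy p Fact.out h; omega
  have hpx : ∀ x : P', ∃ e, (x : Equiv.Perm X) ^ p ^ e = 1 := fun x => by
    obtain ⟨e, he⟩ := hP' x
    exact ⟨e, by rw [← Subgroup.coe_pow, he, Subgroup.coe_one]⟩
  choose R hR hRc using fun x : P' => hcen x (hpx x)
  let := Fintype.ofFinite P'
  have hxG : ∀ x : P', (x : Equiv.Perm X) ∈ G := fun x => Subgroup.map_subtype_le _ x.2
  refine ⟨Finset.univ.biUnion fun x : P' => (R x).image fun r : (G ⊓ Subgroup.centralizer {(x : Equiv.Perm X)} : Subgroup (Equiv.Perm X)) =>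
    (⟨(x : Equiv.Perm X) * (r : Equiv.Perm X), G.mul_mem (hxG x) r.2.1⟩ : G), ?_, ?_⟩
  · refine le_trans ?_ (hB P' hP')
    refine le_trans (Nat.cast_le.mpr Finset.card_biUnion_le) ?_
    rw [Nat.cast_sum]
    unfold wsum
    exact Finset.sum_le_sum fun x _ =>
      le_trans (Nat.cast_le.mpr Finset.card_image_le) (hR x)
  · intro g hg
    obtain ⟨x, y, hxy, hcomm, ⟨e, hxe⟩, hyd, hyp⟩ := exists_part p g
    have hzp : IsPGroup p (Subgroup.zpowers x) := by
      rintro ⟨z, hz⟩
      obtain ⟨i, rfl⟩ := Subgroup.mem_zpowers_iff.mp hz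
      exact ⟨e, Subtype.ext (by
        rw [Subgroup.coe_pow, Subgroup.coe_one, ← zpow_natCast, ← zpow_mul, mul_comm, zpow_mul,
          zpow_natCast, hxe, one_zpow])⟩
    obtain ⟨Q, hQ⟩ := hzp.exists_le_sylow
    obtain ⟨c, hc⟩ := exists_smul_eq G Q P
    have hxP : c * x * c⁻¹ ∈ (P : Subgroup G) := by
      rw [← hc, Sylow.coe_subgroup_smul]
      exact ⟨x, hQ (Subgroup.mem_zpowers x), rfl⟩
    let x' : P' := ⟨_, c * x * c⁻¹, hxP, rfl⟩
    let y' : (G ⊓ Subgroup.centralizer {(x' : Equiv.Perm X)} : Subgroup (Equiv.Perm X)) :=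
      ⟨((c * y * c⁻¹ : G) : Equiv.Perm X), (c * y * c⁻¹).2, by
        exact Subgroup.mem_centralizer_singleton_iff.mpr
          (congrArg Subtype.val ((Commute.conj_iff c).mpr hcomm).eq.symm)⟩
    have hy' : Smooth N y' := by
      intro q hq hd
      have h1 : orderOf y' = orderOf y := by
        rw [← Subgroup.orderOf_coe y']
        show orderOf ((c * y * c⁻¹ : G) : Equiv.Perm X) = orderOf y
        rw [Subgroup.orderOf_coe]
        exact orderOf_injective (MulAut.conj c).toMonoidHom (MulAut.conj c).injective y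
      rw [h1] at hd
      have h2 : q ≤ p := hg q hq (hd.trans hyd)
      have h3 : q ≠ p := fun h => hyp (h ▸ hd)
      omega
    obtain ⟨r, hr, hrc⟩ := hRc x' y' hy'
    refine ⟨_, Finset.mem_biUnion.mpr ⟨x', Finset.mem_univ _, Finset.mem_image.mpr ⟨r, hr, rfl⟩⟩,
      ?_⟩
    obtain ⟨d, hd⟩ := isConj_iff.mp hrc
    refine IsConj.trans (b := c * g * c⁻¹) ?_ (isConj_iff.mpr ⟨c⁻¹, by group⟩)
    refine isConj_iff.mpr ⟨⟨d, d.2.1⟩, Subtype.ext ?_⟩
    have hd' := congrArg Subtype.val hd
    simp only [Subgroup.coe_mul, Subgroup.coe_inv] at hd'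
    have hdx : (d : Equiv.Perm X) * x' = x' * d :=
      (Subgroup.mem_centralizer_singleton_iff.mp d.2.2)
    show (d : Equiv.Perm X) * ((x' : Equiv.Perm X) * r) * (d : Equiv.Perm X)⁻¹ = _
    rw [← mul_assoc, hdx, mul_assoc (x' : Equiv.Perm X), mul_assoc, hd', hxy]
    simp [x', y', mul_assoc]

theorem Cover.mono {G : Type*} [Group G] {N : ℕ} {B B' : ℚ} (h : Cover G N B) (hB : B ≤ B') :
    Cover G N B' := by
  obtain ⟨R, hR, hc⟩ := h
  exact ⟨R, hR.trans hB, hc⟩

theorem prime_le_pow : ∀ p : ℕ, 5 ≤ p → (p : ℚ) * 2 ^ p ≤ 4 * (7 / 2 : ℚ) ^ (p - 2) := by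
  intro p hp
  induction p, hp using Nat.le_induction with
  | base => norm_num
  | succ n hn ih =>
    obtain ⟨m, rfl⟩ : ∃ m, n = m + 2 := ⟨n - 2, by omega⟩
    rw [show m + 2 + 1 - 2 = m + 1 by omega, show m + 2 - 2 = m by omega] at *
    have h1 : (5 : ℚ) ≤ (m + 2 : ℕ) := by exact_mod_cast hn
    have h2 : (0 : ℚ) < 2 ^ (m + 2) := by positivity
    rw [Nat.cast_add _ 1, pow_succ, pow_succ (7 / 2 : ℚ), Nat.cast_one]
    nlinarith

/-- The growth constants. -/
def base (N : ℕ) : ℚ := 4 - 4 / 2 ^ N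

theorem base_mono {N : ℕ} : base N ≤ base (N + 1) := by
  unfold base
  rw [pow_succ]
  have h : (4 : ℚ) / (2 ^ N * 2) ≤ 4 / 2 ^ N := by
    rw [← div_div]
    have : (0 : ℚ) ≤ 4 / 2 ^ N := by positivity
    linarith
  linarith

theorem cover_main : ∀ N : ℕ, 2 ≤ N → ∀ (Y : Type u) [Finite Y] (G : Subgroup (Equiv.Perm Y)),
    Cover G N ((if N = 2 then 2 else base N) ^ Nat.card Y) := by
  intro N hN
  induction N, hN using Nat.le_induction with
  | base =>
    intro Y _ G
    rw [if_pos rfl]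
    have : Fact (Nat.Prime 2) := ⟨Nat.prime_two⟩
    refine cover_step (N := 1) (p := 2) rfl (C := 1) ?_ ?_ G
    · intro Z _ H
      refine ⟨{1}, by simp, fun g hg => ⟨1, by simp, ?_⟩⟩
      have : orderOf g = 1 := Nat.eq_one_iff_not_exists_prime_dvd.mpr fun q hq hd => by
        have := hg q hq hd; have := hq.two_le; omega
      rw [orderOf_eq_one_iff.mp this]
    · intro P hP
      let := Fintype.ofFinite P
      unfold wsum
      simp only [one_pow, Finset.sum_const, nsmul_eq_mul, mul_one]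
      rw [Finset.card_univ, ← Nat.card_eq_fintype_card]
      cases isEmpty_or_nonempty Y
      · rw [Nat.card_of_subsingleton (1 : P), Nat.cast_one]
        exact one_le_pow₀ one_le_two
      obtain ⟨v, hv, hvn⟩ := perm_card_padic_bound hP
      rw [hv, Nat.cast_pow, Nat.cast_ofNat]
      exact pow_le_pow_right₀ one_le_two (by omega)
  | succ N hN ih =>
    intro Y _ G
    rw [if_neg (by omega)]
    rcases Nat.lt_or_ge N 3 with h3 | h3
    · -- the prime three
      obtain rfl : N = 2 := by omega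
      have : Fact (Nat.Prime 3) := ⟨Nat.prime_three⟩
      refine cover_step (N := 2) (p := 3) rfl (C := 2)
        (fun Z _ H => by simpa using ih Z H) ?_ G
      intro P hP
      refine le_trans (b := (Nat.card P : ℚ) * 2 ^ Nat.card Y) ?_ ?_
      · let := Fintype.ofFinite P
        unfold wsum
        refine (Finset.sum_le_card_nsmul _ _ _ fun x _ =>
          pow_le_pow_right₀ one_le_two (cyc_le_card _)).trans ?_
        rw [nsmul_eq_mul, Finset.card_univ, ← Nat.card_eq_fintype_card]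
      cases isEmpty_or_nonempty Y
      · rw [Nat.card_of_subsingleton (1 : P), Nat.card_of_isEmpty, pow_zero, pow_zero,
          Nat.cast_one, one_mul]
      obtain ⟨v, hv, hvn⟩ := perm_card_padic_bound hP
      rw [hv, Nat.cast_pow, ← pow_le_pow_iff_left₀ (by positivity)
        (by unfold base; positivity) two_ne_zero]
      calc (((3 : ℕ) : ℚ) ^ v * (2 : ℚ) ^ Nat.card Y) ^ 2
          = (3 : ℚ) ^ (v * 2) * ((2 : ℚ) ^ 2) ^ Nat.card Y := by
            rw [mul_pow, ← pow_mul, ← pow_mul, ← pow_mul, mul_comm (Nat.card Y) 2, Nat.cast_ofNat]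
        _ ≤ (3 : ℚ) ^ Nat.card Y * ((2 : ℚ) ^ 2) ^ Nat.card Y :=
            mul_le_mul_of_nonneg_right (pow_le_pow_right₀ (by norm_num) (by omega)) (by positivity)
        _ = ((3 : ℚ) * 2 ^ 2) ^ Nat.card Y := (mul_pow _ _ _).symm
        _ ≤ (base (2 + 1) ^ 2) ^ Nat.card Y := pow_le_pow_left₀ (by norm_num) (by norm_num [base]) _
        _ = _ := pow_right_comm _ _ _
    · by_cases hp : (N + 1).Prime
      · have : Fact (N + 1).Prime := ⟨hp⟩
        have h5 : 5 ≤ N + 1 := by
          by_contra h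
          obtain rfl : N = 3 := by omega
          norm_num at hp
        have hlow : (7 / 2 : ℚ) ≤ base N := by
          unfold base
          have h8 : (8 : ℚ) ≤ 2 ^ N := by
            calc (8 : ℚ) = 2 ^ 3 := by norm_num
              _ ≤ _ := pow_le_pow_right₀ one_le_two h3
          have : (4 : ℚ) / 2 ^ N ≤ 1 / 2 := by
            rw [div_le_iff₀ (by positivity)]; linarith
          linarith
        have hpow : ((N + 1 : ℕ) : ℚ) * 2 ^ (N + 1) ≤ 4 * base N ^ (N + 1 - 2) :=
          (prime_le_pow _ h5).trans (by gcongr)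
        have hp2 : ((N + 1 : ℕ) : ℚ) ≤ base N ^ (N + 1 - 2) := by
          have h4 : (4 : ℚ) ≤ 2 ^ (N + 1) := by
            calc (4 : ℚ) = 2 ^ 2 := by norm_num
              _ ≤ _ := pow_le_pow_right₀ one_le_two (by omega)
          have h0 : (0 : ℚ) ≤ (N + 1 : ℕ) := Nat.cast_nonneg _
          nlinarith
        refine cover_step (N := N) (p := N + 1) rfl (C := base N)
          (fun Z _ H => by simpa [show N ≠ 2 by omega] using ih Z H) ?_ G
        intro P hP
        refine (wsum_le (by omega) (by linarith) hp2 P hP).trans ?_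
        have hstep : base N * (1 + (N + 1 : ℕ) / base N ^ (N + 1 - 1)) ≤ base (N + 1) := by
          have hC0 : 0 < base N := by linarith
          obtain ⟨m, rfl⟩ : ∃ m, N = m + 1 := ⟨N - 1, by omega⟩
          simp only [show m + 1 + 1 - 1 = m + 1 by omega, show m + 1 + 1 - 2 = m by omega] at *
          rw [mul_add, mul_one, pow_succ (base (m + 1)), mul_div_assoc', mul_comm (base (m + 1)) _,
            mul_div_mul_right _ _ hC0.ne']
          have hb : base (m + 1 + 1) - base (m + 1) = 4 / 2 ^ (m + 1 + 1) := by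
            unfold base
            rw [pow_succ _ (m + 1)]
            field_simp
            ring
          have : ((m + 1 + 1 : ℕ) : ℚ) / base (m + 1) ^ m ≤ 4 / 2 ^ (m + 1 + 1) := by
            rw [div_le_div_iff₀ (by positivity) (by positivity)]
            exact hpow
          linarith
        refine le_trans ?_ (pow_le_pow_left₀ (by positivity) hstep _)
        rw [mul_pow]
        exact mul_le_mul_of_nonneg_left
          (pow_le_pow_right₀ (le_add_of_nonneg_right (by positivity)) (Nat.sub_le _ _))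
          (by positivity)
      · obtain ⟨R, hR, hc⟩ := ih Y G
        refine ⟨R, hR.trans (pow_le_pow_left₀ ?_ ?_ _), fun g hg => hc g fun q hq hd => ?_⟩
        · split_ifs <;> norm_num [base]
          exact div_le_self (by norm_num) (one_le_pow₀ one_le_two)
        · rw [if_neg (by omega)]
          exact base_mono
        · have := hg q hq hd
          rcases Nat.lt_or_ge q (N + 1) with h | h
          · omega
          · exact absurd ((le_antisymm this h) ▸ hq) hp

/-- A permutation group of degree `n` has at most `4 ^ n` conjugacy classes. -/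
theorem card_conjClasses_le [Finite X] (G : Subgroup (Equiv.Perm X)) :
    (Nat.card (ConjClasses G) : ℚ) ≤ 4 ^ Nat.card X := by
  classical
  obtain ⟨R, hR, hc⟩ := cover_main (max (Nat.card X) 3) (by omega) X G
  have hb : (if max (Nat.card X) 3 = 2 then (2 : ℚ) else base (max (Nat.card X) 3)) ≤ 4 := by
    rw [if_neg (by omega)]
    exact sub_le_self _ (by positivity)
  have hb0 : (0 : ℚ) ≤ (if max (Nat.card X) 3 = 2 then (2 : ℚ) else base (max (Nat.card X) 3)) := by
    rw [if_neg (by omega)]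
    exact sub_nonneg.mpr (div_le_self (by norm_num) (one_le_pow₀ one_le_two))
  refine le_trans ?_ (hR.trans (pow_le_pow_left₀ hb0 hb _))
  have hsurj : Function.Surjective (fun r : R => ConjClasses.mk (r : G)) := by
    intro cl
    obtain ⟨g, rfl⟩ := ConjClasses.exists_rep cl
    obtain ⟨r, hr, hrc⟩ := hc g fun q hq hd => by
      have h1 : orderOf g ∣ (Nat.card X).factorial := by
        rw [← Nat.card_perm, ← Subgroup.orderOf_coe]
        exact orderOf_dvd_natCard _
      exact le_max_of_le_left ((Nat.Prime.dvd_factorial hq).mp (hd.trans h1))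
    exact ⟨⟨r, hr⟩, ConjClasses.mk_eq_mk_iff_isConj.mpr hrc⟩
  have := Nat.card_le_card_of_surjective _ hsurj
  rw [Nat.card_eq_finsetCard] at this
  exact_mod_cast this

end Cfsg.Agent.PermClass
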