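import Mathlib

/-!
Weighted element counts in permutation p-groups: for a p-group `P` of permutations of `n`
points and a weight `C` with `p ≤ C ^ (p - 2)`, the sum of `C ^ (number of cycles)` over `P`
is at most `C ^ n * (1 + p / C ^ (p - 1)) ^ (n - 1)`.
-/

namespace Cfsg.Agent.PermClass

open MulAction

variable {X : Type*}

/-- Number of cycles (fixed points included) of a permutation. -/
noncomputable def cyc (x : Equiv.Perm X) : ℕ :=
  Nat.card (orbitRel.Quotient (Subgroup.zpowers x) X)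

theorem mem_orbit_zpowers (x : Equiv.Perm X) (a b : X) :
    a ∈ orbit (Subgroup.zpowers x) b ↔ ∃ i : ℤ, (x ^ i) b = a := by
  constructor
  · rintro ⟨⟨y, hy⟩, rfl⟩
    obtain ⟨i, rfl⟩ := Subgroup.mem_zpowers_iff.mp hy
    exact ⟨i, rfl⟩
  · rintro ⟨i, rfl⟩
    exact ⟨⟨x ^ i, Subgroup.mem_zpowers_iff.mpr ⟨i, rfl⟩⟩, rfl⟩

theorem cyc_le_card [Finite X] (x : Equiv.Perm X) : cyc x ≤ Nat.card X :=
  Nat.card_le_card_of_surjective (Quotient.mk'' : X → orbitRel.Quotient (Subgroup.zpowers x) X)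
    Quotient.mk''_surjective

/-- A fixed point free element of prime power order has at most `n / p` cycles. -/
theorem cyc_mul_le [Finite X] {p : ℕ} [Fact p.Prime] (x : Equiv.Perm X)
    (hp : IsPGroup p (Subgroup.zpowers x)) (hfix : ∀ a, x a ≠ a) : cyc x * p ≤ Nat.card X := by
  classical
  have := Fintype.ofFinite (orbitRel.Quotient (Subgroup.zpowers x) X)
  rw [Nat.card_congr (selfEquivSigmaOrbits (Subgroup.zpowers x) X), Nat.card_sigma, cyc,
    Nat.card_eq_fintype_card, ← Finset.card_univ, ← smul_eq_mul, ← Finset.sum_const]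
  refine Finset.sum_le_sum fun ω _ => ?_
  obtain ⟨k, hk⟩ := hp.card_orbit ω.out
  rw [hk]
  rcases Nat.eq_zero_or_pos k with rfl | hk0
  · exfalso
    rw [pow_zero, Nat.card_eq_one_iff_unique] at hk
    have h1 : x ω.out ∈ orbit (Subgroup.zpowers x) ω.out :=
      (mem_orbit_zpowers x _ _).mpr ⟨1, by rw [zpow_one]⟩
    have := hk.1
    exact hfix ω.out (congrArg Subtype.val
      (Subsingleton.elim (⟨_, h1⟩ : orbit (Subgroup.zpowers x) ω.out) ⟨_, mem_orbit_self _⟩))
  · exact Nat.le_self_pow (by omega) p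

/-- Sum of `C ^ cyc` over the group. -/
noncomputable def wsum [Finite X] (C : ℚ) (P : Subgroup (Equiv.Perm X)) : ℚ :=
  haveI := Fintype.ofFinite P
  ∑ x : P, C ^ cyc (x : Equiv.Perm X)

/-- Restriction of a permutation group to an invariant set. -/
def restrictHom (P : Subgroup (Equiv.Perm X)) (q : X → Prop) (hq : ∀ x ∈ P, ∀ a, q (x a) ↔ q a) :
    P →* Equiv.Perm {a // q a} where
  toFun x := (x : Equiv.Perm X).subtypePerm (hq x x.2)
  map_one' := by ext; rfl
  map_mul' x y := by ext; rfl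

@[simp] theorem restrictHom_apply (P : Subgroup (Equiv.Perm X)) (q : X → Prop)
    (hq : ∀ x ∈ P, ∀ a, q (x a) ↔ q a) (x : P) (a : {a // q a}) :
    ((restrictHom P q hq x a : {a // q a}) : X) = (x : Equiv.Perm X) a := rfl

theorem restrictHom_zpow (P : Subgroup (Equiv.Perm X)) (q : X → Prop)
    (hq : ∀ x ∈ P, ∀ a, q (x a) ↔ q a) (x : P) (i : ℤ) (a : {a // q a}) :
    ((((restrictHom P q hq x) ^ i) a : {a // q a}) : X) = ((x : Equiv.Perm X) ^ i) a := by
  rw [← map_zpow]
  exact (restrictHom_apply P q hq (x ^ i) a).trans (by rw [Subgroup.coe_zpow])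

theorem cyc_split_le [Finite X] (P : Subgroup (Equiv.Perm X)) (q : X → Prop)
    (hq : ∀ x ∈ P, ∀ a, q (x a) ↔ q a) (hq' : ∀ x ∈ P, ∀ a, ¬q (x a) ↔ ¬q a) (x : P) :
    cyc (x : Equiv.Perm X) ≤ cyc (restrictHom P q hq x) + cyc (restrictHom P (fun a => ¬q a) hq' x) := by
  classical
  have h : ∀ (r : X → Prop) (hr : ∀ x ∈ P, ∀ a, r (x a) ↔ r a), ∀ a b : {a // r a},
      (orbitRel (Subgroup.zpowers (restrictHom P r hr x)) _) a b →
      (Quotient.mk'' (a : X) : orbitRel.Quotient (Subgroup.zpowers (x : Equiv.Perm X)) X) =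
        Quotient.mk'' (b : X) := by
    intro r hr a b hab
    rw [orbitRel_apply] at hab
    obtain ⟨i, hi⟩ := (mem_orbit_zpowers _ _ _).mp hab
    refine Quotient.sound' ?_
    rw [orbitRel_apply]
    refine (mem_orbit_zpowers _ _ _).mpr ⟨i, ?_⟩
    rw [← restrictHom_zpow P r hr x i b, hi]
  unfold cyc
  rw [← Nat.card_sum]
  refine Nat.card_le_card_of_surjective
    (Sum.elim (Quotient.lift (fun a : {a // q a} => Quotient.mk'' (a : X)) (h q hq))
      (Quotient.lift (fun a : {a // ¬q a} => Quotient.mk'' (a : X)) (h _ hq'))) ?_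
  intro z
  induction z using Quotient.inductionOn' with
  | _ a =>
    by_cases ha : q a
    · exact ⟨Sum.inl (Quotient.mk'' ⟨a, ha⟩), rfl⟩
    · exact ⟨Sum.inr (Quotient.mk'' ⟨a, ha⟩), rfl⟩

theorem sum_le_mul_sum_of_injective {α β γ : Type*} [Fintype α] [Fintype β] [Fintype γ]
    (f : α → β × γ) (hf : Function.Injective f) (a : α → ℚ) (g : β → ℚ) (h : γ → ℚ)
    (hg : ∀ b, 0 ≤ g b) (hh : ∀ c, 0 ≤ h c) (hle : ∀ x, a x ≤ g (f x).1 * h (f x).2) :
    ∑ x, a x ≤ (∑ b, g b) * ∑ c, h c := by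
  classical
  rw [Fintype.sum_mul_sum, ← Fintype.sum_prod_type (f := fun z : β × γ => g z.1 * h z.2)]
  calc ∑ x, a x ≤ ∑ x, g (f x).1 * h (f x).2 := Finset.sum_le_sum fun x _ => hle x
    _ = ∑ z ∈ Finset.univ.image f, g z.1 * h z.2 :=
        (Finset.sum_image (f := fun z : β × γ => g z.1 * h z.2) hf.injOn).symm
    _ ≤ _ := Finset.sum_le_sum_of_subset_of_nonneg (Finset.subset_univ _)
        (fun z _ _ => mul_nonneg (hg z.1) (hh z.2))

theorem wsum_split_le [Finite X] {C : ℚ} (hC : 1 ≤ C) (P : Subgroup (Equiv.Perm X)) (q : X → Prop)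
    (hq : ∀ x ∈ P, ∀ a, q (x a) ↔ q a) (hq' : ∀ x ∈ P, ∀ a, ¬q (x a) ↔ ¬q a) :
    wsum C P ≤
      wsum C (restrictHom P q hq).range * wsum C (restrictHom P (fun a => ¬q a) hq').range := by
  unfold wsum
  refine @sum_le_mul_sum_of_injective _ _ _ (Fintype.ofFinite _) (Fintype.ofFinite _)
    (Fintype.ofFinite _)
    (fun x => (⟨restrictHom P q hq x, x, rfl⟩, ⟨restrictHom P (fun a => ¬q a) hq' x, x, rfl⟩))
    ?_ _ _ _ (fun _ => by positivity) (fun _ => by positivity) ?_
  · intro x y hxy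
    have h1 := congrArg (fun z => (z.1 : Equiv.Perm {a // q a})) hxy
    have h2 := congrArg (fun z => (z.2 : Equiv.Perm {a // ¬q a})) hxy
    simp only at h1 h2
    refine Subtype.ext (Equiv.ext fun a => ?_)
    by_cases ha : q a
    · exact congrArg Subtype.val (Equiv.ext_iff.mp h1 ⟨a, ha⟩)
    · exact congrArg Subtype.val (Equiv.ext_iff.mp h2 ⟨a, ha⟩)
  · intro x
    rw [← pow_add]
    exact pow_le_pow_right₀ hC (cyc_split_le P q hq hq' x)

theorem perm_card_padic_bound [Finite X] [Nonempty X] {p : ℕ} [hpf : Fact p.Prime]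
    {P : Subgroup (Equiv.Perm X)} (hP : IsPGroup p P) :
    ∃ v, Nat.card P = p ^ v ∧ (p - 1) * v < Nat.card X := by
  obtain ⟨v, hv⟩ := IsPGroup.iff_card.mp hP
  refine ⟨v, hv, ?_⟩
  have hdvd := P.card_subgroup_dvd_card
  rw [Nat.card_perm, hv] at hdvd
  have hle : v ≤ padicValNat p (Nat.card X).factorial :=
    (padicValNat_dvd_iff_le (Nat.factorial_ne_zero _)).mp hdvd
  exact lt_of_le_of_lt (Nat.mul_le_mul_left _ hle)
    (sub_one_mul_padicValNat_factorial_lt_of_ne_zero p Nat.card_pos.ne')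

theorem fpf_term_le {p v n c : ℕ} (hp : 3 ≤ p) (hv : (p - 1) * v < n) (hc : c * p ≤ n)
    (hpn : p ≤ n) {C : ℚ} (hC : 1 ≤ C) (hCp : (p : ℚ) ≤ C ^ (p - 2)) :
    (p : ℚ) ^ v * C ^ c ≤ C ^ n * (p / C ^ (p - 1)) := by
  have hC0 : 0 < C := by linarith
  rw [mul_div_assoc', le_div_iff₀ (by positivity)]
  rcases Nat.eq_zero_or_pos v with rfl | hv0
  · rw [pow_zero, one_mul, ← pow_add]
    have h1 : (1 : ℚ) ≤ p := by exact_mod_cast (by omega : 1 ≤ p)
    calc C ^ (c + (p - 1)) ≤ C ^ n := pow_le_pow_right₀ hC (by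
          rcases Nat.eq_zero_or_pos c with rfl | hc0
          · omega
          · have : c * p ≥ c + (p - 1) := by
              obtain ⟨d, rfl⟩ : ∃ d, c = d + 1 := ⟨c - 1, by omega⟩
              rw [add_mul, one_mul]
              have : d ≤ d * p := Nat.le_mul_of_pos_right d (by omega)
              omega
            omega)
      _ ≤ C ^ n * p := le_mul_of_one_le_right (by positivity) h1
  · obtain ⟨u, rfl⟩ : ∃ u, v = u + 1 := ⟨v - 1, by omega⟩
    obtain ⟨r, rfl⟩ : ∃ r, p = r + 3 := ⟨p - 3, by omega⟩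
    simp only [show r + 3 - 1 = r + 2 by omega, show r + 3 - 2 = r + 1 by omega] at *
    have key : (r + 1) * u + c + (r + 2) ≤ n := by nlinarith
    calc ((r + 3 : ℕ) : ℚ) ^ (u + 1) * C ^ c * C ^ (r + 2)
        = ((r + 3 : ℕ) : ℚ) ^ u * (C ^ c * C ^ (r + 2)) * (r + 3 : ℕ) := by ring
      _ ≤ (C ^ (r + 1)) ^ u * (C ^ c * C ^ (r + 2)) * (r + 3 : ℕ) := by gcongr
      _ = C ^ ((r + 1) * u + c + (r + 2)) * (r + 3 : ℕ) := by ring
      _ ≤ C ^ n * (r + 3 : ℕ) := by gcongr

theorem wsum_le [Finite X] {p : ℕ} [hpf : Fact p.Prime] (hp : 3 ≤ p) {C : ℚ} (hC : 1 ≤ C)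
    (hCp : (p : ℚ) ≤ C ^ (p - 2)) (P : Subgroup (Equiv.Perm X)) (hP : IsPGroup p P) :
    wsum C P ≤ C ^ Nat.card X * (1 + p / C ^ (p - 1)) ^ (Nat.card X - 1) := by
  classical
  have hC0 : 0 < C := by linarith
  have hB : (1 : ℚ) ≤ 1 + p / C ^ (p - 1) := le_add_of_nonneg_right (by positivity)
  induction hn : Nat.card X using Nat.strong_induction_on generalizing X with
  | _ n ih =>
    subst hn
    let := Fintype.ofFinite P
    -- intransitive groups
    have split : ∀ (Q : Subgroup (Equiv.Perm X)), IsPGroup p Q → (∃ a b : X, ∀ x ∈ Q, x a ≠ b) →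
        wsum C Q ≤ C ^ Nat.card X * (1 + p / C ^ (p - 1)) ^ (Nat.card X - 2) := by
      intro Q hQ ⟨a, b, hab⟩
      let q : X → Prop := fun c => ∃ x ∈ Q, x a = c
      have hq : ∀ x ∈ Q, ∀ c, q (x c) ↔ q c := by
        intro x hx c
        constructor
        · rintro ⟨y, hy, hyc⟩
          exact ⟨x⁻¹ * y, Q.mul_mem (Q.inv_mem hx) hy, by simp [hyc]⟩
        · rintro ⟨y, hy, rfl⟩
          exact ⟨x * y, Q.mul_mem hx hy, rfl⟩
      have hq' : ∀ x ∈ Q, ∀ c, ¬q (x c) ↔ ¬q c := fun x hx c => not_congr (hq x hx c)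
      have hsum : Nat.card {c // q c} + Nat.card {c // ¬q c} = Nat.card X := by
        rw [← Nat.card_sum, Nat.card_congr (Equiv.sumCompl q)]
      have : Nonempty {c // q c} := ⟨⟨a, 1, Q.one_mem, rfl⟩⟩
      have : Nonempty {c // ¬q c} := ⟨⟨b, fun ⟨x, hx, he⟩ => hab x hx he⟩⟩
      have h1 : 0 < Nat.card {c // q c} := Nat.card_pos
      have h2 : 0 < Nat.card {c // ¬q c} := Nat.card_pos
      have i1 := ih (Nat.card {c // q c}) (by omega) (restrictHom Q q hq).range
        (hQ.of_surjective _ (restrictHom Q q hq).rangeRestrict_surjective) rfl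
      have i2 := ih (Nat.card {c // ¬q c}) (by omega) (restrictHom Q (fun a => ¬q a) hq').range
        (hQ.of_surjective _ (restrictHom Q (fun a => ¬q a) hq').rangeRestrict_surjective) rfl
      refine (wsum_split_le hC Q q hq hq').trans ?_
      refine (mul_le_mul i1 i2 (by unfold wsum; positivity) (by positivity)).trans ?_
      rw [mul_mul_mul_comm, ← pow_add, ← pow_add, hsum]
      exact mul_le_mul_of_nonneg_left (pow_le_pow_right₀ hB (by omega)) (by positivity)
    by_cases hn1 : Nat.card X ≤ 1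
    · have : Subsingleton X := (Finite.card_le_one_iff_subsingleton).mp hn1
      have : Subsingleton P := inferInstance
      unfold wsum
      rw [Fintype.sum_subsingleton _ (1 : P), Nat.sub_eq_zero_of_le hn1, pow_zero, mul_one]
      exact pow_le_pow_right₀ hC (cyc_le_card _)
    by_cases hint : ∃ a b : X, ∀ x ∈ P, x a ≠ b
    · exact (split P hP hint).trans
        (mul_le_mul_of_nonneg_left (pow_le_pow_right₀ hB (by omega)) (by positivity))
    push Not at hint
    have : Nontrivial X := Finite.one_lt_card_iff_nontrivial.mp (by omega)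
    obtain ⟨a, b, hab⟩ := exists_pair_ne X
    have : IsPretransitive P X := ⟨fun u w => by
      obtain ⟨x, hx, he⟩ := hint u w
      exact ⟨⟨x, hx⟩, he⟩⟩
    have hstab : stabilizer P a ≠ ⊤ := by
      intro h
      obtain ⟨g, hg⟩ := exists_smul_eq P a b
      have : g ∈ stabilizer P a := h ▸ Subgroup.mem_top g
      exact hab ((mem_stabilizer_iff.mp this).symm.trans hg)
    obtain ⟨M, hM, haM⟩ := (eq_top_or_exists_le_coatom (stabilizer P a)).resolve_left hstab
    have hnc : NormalizerCondition P := by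
      have := hP.isNilpotent
      exact Group.normalizerCondition_of_isNilpotent
    have hMn : M.Normal := Subgroup.NormalizerCondition.normal_of_coatom M hnc hM
    have hallM : ∀ c : X, stabilizer P c ≤ M := by
      intro c g hg
      obtain ⟨h, rfl⟩ := exists_smul_eq P a c
      rw [mem_stabilizer_iff] at hg
      have : h⁻¹ * g * h ∈ M := haM (mem_stabilizer_iff.mpr (by
        rw [mul_smul, mul_smul, hg, inv_smul_smul]))
      simpa [mul_assoc] using hMn.conj_mem _ this h
    let N : Subgroup (Equiv.Perm X) := M.map P.subtype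
    let := Fintype.ofFinite N
    have hNP : N ≤ P := Subgroup.map_subtype_le M
    have hNint : ∃ a b : X, ∀ x ∈ N, x a ≠ b := by
      by_contra hcon
      push Not at hcon
      refine hM.1 (eq_top_iff.mpr fun g _ => ?_)
      obtain ⟨x, ⟨m, hm, rfl⟩, he⟩ := hcon a (g • a)
      have : m⁻¹ * g ∈ M := haM (mem_stabilizer_iff.mpr (by
        rw [mul_smul, inv_smul_eq_iff]; exact he.symm))
      simpa using M.mul_mem hm this
    have hN := split N (hP.to_le hNP) hNint
    obtain ⟨v, hv, hvn⟩ := perm_card_padic_bound hP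
    have hpn : p ≤ Nat.card X := by
      obtain ⟨k, hk⟩ := hP.card_orbit a
      rw [orbit_eq_univ, Nat.card_congr (Equiv.Set.univ X)] at hk
      rw [hk]
      refine Nat.le_self_pow ?_ p
      rintro rfl
      simp at hk
      omega
    have hterm : ∀ x : P, x ∉ M →
        C ^ cyc (x : Equiv.Perm X) ≤
          C ^ Nat.card X * (p / C ^ (p - 1)) / (p : ℚ) ^ v := by
      intro x hx
      rw [le_div_iff₀ (pow_pos (by exact_mod_cast hpf.out.pos) v), mul_comm]
      refine fpf_term_le hp hvn (cyc_mul_le _ ?_ ?_) hpn hC hCp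
      · exact hP.to_le (Subgroup.zpowers_le.mpr x.2)
      · intro c hc
        exact hx (hallM c (mem_stabilizer_iff.mpr hc))
    have hsum1 : ∑ x ∈ Finset.univ.filter (fun x : P => x ∈ M), C ^ cyc (x : Equiv.Perm X) =
        wsum C N := by
      unfold wsum
      refine Finset.sum_bij (fun x hx => (⟨(x : Equiv.Perm X), x, (Finset.mem_filter.mp hx).2,
        rfl⟩ : N)) (fun _ _ => Finset.mem_univ _) ?_ ?_ (fun _ _ => rfl)
      · intro x _ y _ h
        exact Subtype.ext (by simpa using congrArg Subtype.val h)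
      · rintro ⟨y, m, hm, rfl⟩ _
        exact ⟨m, Finset.mem_filter.mpr ⟨Finset.mem_univ _, hm⟩, rfl⟩
    have hsum2 : ∑ x ∈ Finset.univ.filter (fun x : P => ¬x ∈ M), C ^ cyc (x : Equiv.Perm X) ≤
        C ^ Nat.card X * (p / C ^ (p - 1)) := by
      refine (Finset.sum_le_card_nsmul _ _ _ fun x hx =>
        hterm x (Finset.mem_filter.mp hx).2).trans ?_
      rw [nsmul_eq_mul]
      have hcard : ((Finset.univ.filter fun x : P => ¬x ∈ M).card : ℚ) ≤ (p : ℚ) ^ v := by
        have := (Finset.univ.filter fun x : P => ¬x ∈ M).card_le_univ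
        rw [← Nat.card_eq_fintype_card, hv] at this
        exact_mod_cast this
      refine (mul_le_mul_of_nonneg_right hcard (by positivity)).trans (le_of_eq ?_)
      rw [mul_div_cancel₀]
      exact (pow_pos (by exact_mod_cast hpf.out.pos) v).ne'
    have hW : wsum C P = ∑ x ∈ Finset.univ.filter (fun x : P => x ∈ M), C ^ cyc (x : Equiv.Perm X)
        + ∑ x ∈ Finset.univ.filter (fun x : P => ¬x ∈ M), C ^ cyc (x : Equiv.Perm X) := by
      rw [Finset.sum_filter_add_sum_filter_not]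
      rfl
    rw [hW, hsum1]
    refine (add_le_add hN hsum2).trans ?_
    obtain ⟨m, hm⟩ : ∃ m, Nat.card X = m + 2 := ⟨Nat.card X - 2, by omega⟩
    rw [hm, show m + 2 - 2 = m by omega, show m + 2 - 1 = m + 1 by omega, ← mul_add]
    refine mul_le_mul_of_nonneg_left ?_ (by positivity)
    have h1 : (1 : ℚ) ≤ (1 + p / C ^ (p - 1)) ^ m := one_le_pow₀ hB
    have h2 : (0 : ℚ) ≤ p / C ^ (p - 1) := by positivity
    have h3 := mul_le_mul_of_nonneg_right h1 h2
    rw [one_mul] at h3
    rw [pow_succ, mul_add, mul_one]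
    linarith

end Cfsg.Agent.PermClass
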